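import Mathlib
import Cfsg.Agent.H737.RootW

/-!
# Root involutions: deep members of `W_d`

A member `v` of `W_d` outside the class `E_d` is *deep* if all its commutators with members of `W_d`
lie in `E_d ∪ {1}`.  If `e` is opposite to `v` but not to `d`, then `a ↦ [a, e]` maps `E(d)` onto
`E(z)` for some `z`, `e` is deep for `z`, and `[E(z), v] = E(d)`.
-/

set_option autoImplicit false

namespace Cfsg.Agent.H737

open Cfsg

variable {G : Type*} [Group G] {D : Set G}

/-- `v ∈ W_d` lies outside the class of `d` and all its commutators with `W_d` lie in that class. -/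
def Deep (D : Set G) (d v : G) : Prop :=
  v ∈ WSet D d ∧ ¬ SimR D v d ∧
    ∀ x ∈ WSet D d, ¬ Commute v x → SimR D (x * (v * x * v)) d

theorem commute_conj_iff' (g x y : G) : Commute (g * x * g⁻¹) (g * y * g⁻¹) ↔ Commute x y := by
  constructor
  · intro hh
    have h1 : g * x * g⁻¹ * (g * y * g⁻¹) = g * y * g⁻¹ * (g * x * g⁻¹) := hh
    show x * y = y * x
    calc x * y = g⁻¹ * (g * x * g⁻¹ * (g * y * g⁻¹)) * g := by group
      _ = g⁻¹ * (g * y * g⁻¹ * (g * x * g⁻¹)) * g := by rw [h1]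
      _ = y * x := by group
  · intro hh
    show g * x * g⁻¹ * (g * y * g⁻¹) = g * y * g⁻¹ * (g * x * g⁻¹)
    calc g * x * g⁻¹ * (g * y * g⁻¹) = g * (x * y) * g⁻¹ := by group
      _ = g * (y * x) * g⁻¹ := by rw [hh.eq]
      _ = _ := by group

theorem simR_conj_iff (h : IsRootInvolutionSet D) (g x y : G) :
    SimR D (g * x * g⁻¹) (g * y * g⁻¹) ↔ SimR D x y := by
  constructor
  · intro hh
    have h1 := hh.conj h g⁻¹
    have e1 : g⁻¹ * (g * x * g⁻¹) * g⁻¹⁻¹ = x := by group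
    have e2 : g⁻¹ * (g * y * g⁻¹) * g⁻¹⁻¹ = y := by group
    rwa [e1, e2] at h1
  · intro hh
    exact hh.conj h g

theorem deep_conj (h : IsRootInvolutionSet D) {d v : G} (hv : Deep D d v) (g : G) :
    Deep D (g * d * g⁻¹) (g * v * g⁻¹) := by
  refine ⟨WSet_conj h hv.1 g, ?_, ?_⟩
  · intro hh
    exact hv.2.1 ((simR_conj_iff h g v d).1 hh)
  · intro x hx hn
    have h1 : g⁻¹ * x * g⁻¹⁻¹ ∈ WSet D d := by
      have h2 := WSet_conj h hx g⁻¹
      have e2 : g⁻¹ * (g * d * g⁻¹) * g⁻¹⁻¹ = d := by group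
      rwa [e2] at h2
    rw [inv_inv] at h1
    have e1 : x = g * (g⁻¹ * x * g) * g⁻¹ := by group
    have h3 : ¬ Commute v (g⁻¹ * x * g) := by
      intro hh
      apply hn
      rw [e1]
      exact (commute_conj_iff' g _ _).2 hh
    have h4 := hv.2.2 _ h1 h3
    have e3 : x * (g * v * g⁻¹ * x * (g * v * g⁻¹)) =
        g * ((g⁻¹ * x * g) * (v * (g⁻¹ * x * g) * v)) * g⁻¹ := by group
    rw [e3]
    exact (simR_conj_iff h g _ _).2 h4

/-- Opposite involutions `a`, `b` are conjugate by a power of `ab`. -/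
theorem Opp.exists_conj_pow {a b : G} (ha : a * a = 1) (hb : b * b = 1) (hab : Opp a b) :
    ∃ m : ℕ, (a * b) ^ m * a * ((a * b) ^ m)⁻¹ = b := by
  obtain ⟨m, hm⟩ := hab.2
  set ρ : G := a * b with hρ
  refine ⟨m, ?_⟩
  have hinv : a * ρ * a⁻¹ = ρ⁻¹ := by
    rw [hρ, mul_inv_rev, inv_of_sq hb, inv_of_sq ha, ← mul_assoc, ha, one_mul]
  have h1 : a * (ρ ^ m)⁻¹ * a⁻¹ = ρ ^ m := by
    rw [← inv_pow, ← conj_pow]
    rw [show a * ρ⁻¹ * a⁻¹ = (a * ρ * a⁻¹)⁻¹ by group, hinv, inv_inv]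
  have h2 : a * (ρ ^ m)⁻¹ = ρ ^ m * a := by
    calc a * (ρ ^ m)⁻¹ = (a * (ρ ^ m)⁻¹ * a⁻¹) * a := by group
      _ = ρ ^ m * a := by rw [h1]
  have h3 : ρ ^ (2 * m + 1) = 1 := by rw [← hm, pow_orderOf_eq_one]
  calc ρ ^ m * a * (ρ ^ m)⁻¹ = ρ ^ m * (a * (ρ ^ m)⁻¹) := by group
    _ = ρ ^ m * (ρ ^ m * a) := by rw [h2]
    _ = (ρ ^ (2 * m + 1)) * ρ⁻¹ * a := by rw [pow_succ, two_mul, pow_add]; group
    _ = b := by
      rw [h3, hρ, mul_inv_rev, inv_of_sq ha, inv_of_sq hb, one_mul, mul_assoc, ha, mul_one]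

theorem deep_pair [Finite G] (h : IsRootInvolutionSet D) (hc : IsConnectedSet (OddAdj D) D)
    {d v e : G} (hd : d ∈ D) {ES : Subgroup G}
    (hES : ∀ x, x ∈ ES ↔ x = 1 ∨ (x ∈ D ∧ SimR D x d)) (hdv : Deep D d v) (he : e ∈ D)
    (hev : Opp e v) (hed : ¬ Opp e d) :
    ∃ z ∈ D, z ∈ WSet D d ∧ Deep D z e ∧
      (∀ z' ∈ D, SimR D z' z → ∃ a ∈ D, SimR D a d ∧ z' = a * (e * a * e)) ∧
      (∀ a ∈ D, SimR D a d → SimR D (a * (e * a * e)) z) ∧
      (∀ a ∈ D, SimR D a d → ∃ z' ∈ D, SimR D z' z ∧ a = z' * (v * z' * v)) := by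
  classical
  have hvW := hdv.1
  have hvD := hvW.1
  have hee := sq_of_mem h he
  have hvv := sq_of_mem h hvD
  have key := fun (a : G) (ha : a ∈ D) (hs : SimR D a d) => comm_class h hc hd hvW he hev hed ha hs
  set f : G → G := fun a => a * (e * a * e) with hf
  -- basic facts
  have hf1 : f 1 = 1 := by simp only [hf]; rw [one_mul, mul_one, hee]
  have hfW : ∀ a ∈ ES, a = 1 ∨ f a ∈ WSet D d := by
    intro a ha
    rcases (hES a).1 ha with h1 | h1
    · exact Or.inl h1
    · exact Or.inr (key a h1.1 h1.2).2.2.2.1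
  have hWE : ∀ w ∈ WSet D d, ∀ a ∈ ES, Commute w a := by
    intro w hw a ha
    rcases (hES a).1 ha with h1 | h1
    · rw [h1]; exact Commute.one_right w
    · exact WSet_commute_sim h hc hd h1.1 h1.2 hw
  have hEE : ∀ a ∈ ES, ∀ b ∈ ES, Commute a b := by
    intro a ha b hb
    rcases (hES a).1 ha with h1 | h1
    · rw [h1]; exact Commute.one_left b
    · exact hWE a (sim_mem_WSet h hc hd h1.1 h1.2) b hb
  have hfE : ∀ a ∈ ES, ∀ b ∈ ES, Commute (f a) b := by
    intro a ha b hb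
    rcases hfW a ha with h1 | h1
    · rw [h1, hf1]; exact Commute.one_left b
    · exact hWE _ h1 b hb
  have hsq : ∀ a ∈ ES, a * a = 1 := by
    intro a ha
    rcases (hES a).1 ha with h1 | h1
    · rw [h1, mul_one]
    · exact sq_of_mem h h1.1
  have heae : ∀ a ∈ ES, e * a * e = a * f a := by
    intro a ha
    simp only [hf]
    rw [← mul_assoc, hsq a ha, one_mul]
  have hfmul : ∀ a ∈ ES, ∀ b ∈ ES, f (a * b) = f a * f b := by
    intro a ha b hb
    have h1 : Commute (e * a * e) b := by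
      rw [heae a ha]
      exact (hEE a ha b hb).mul_left (hfE a ha b hb)
    simp only [hf]
    calc a * b * (e * (a * b) * e) = a * b * (e * a * 1 * b * e) := by group
      _ = a * b * (e * a * (e * e) * b * e) := by rw [hee]
      _ = a * (b * (e * a * e)) * (e * b * e) := by group
      _ = a * ((e * a * e) * b) * (e * b * e) := by rw [h1.eq]
      _ = _ := by group
  have hfe : ∀ a ∈ ES, Commute (f a) e := by
    intro a ha
    rcases (hES a).1 ha with h1 | h1
    · rw [h1, hf1]; exact Commute.one_left e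
    · exact (key a h1.1 h1.2).2.2.2.2.1
  have hfne : ∀ a ∈ ES, f a = 1 → a = 1 := by
    intro a ha h1
    rcases (hES a).1 ha with h2 | h2
    · exact h2
    · have h3 := (key a h2.1 h2.2).2.1
      exact absurd h1 (ne_one_of_mem h h3)
  have hff : ∀ a ∈ ES, ∀ b ∈ ES, Commute (f a) (f b) := by
    intro a ha b hb
    show f a * f b = f b * f a
    rw [← hfmul a ha b hb, ← hfmul b hb a ha, (hEE a ha b hb).eq]
  have hfsq : ∀ a ∈ ES, f a * f a = 1 := by
    intro a ha
    rw [← hfmul a ha a ha, hsq a ha, hf1]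
  -- the second map
  set s : G → G := fun a => f a * (v * f a * v) with hs
  have hs1 : s 1 = 1 := by simp only [hs, hf1]; rw [one_mul, mul_one, hvv]
  have hsES : ∀ a ∈ ES, s a ∈ ES ∧ (s a = 1 → a = 1) := by
    intro a ha
    rcases (hES a).1 ha with h1 | h1
    · rw [h1, hs1]; exact ⟨one_mem _, fun _ => rfl⟩
    · have h2 := key a h1.1 h1.2
      have h3 : ¬ Commute (f a) v := h2.2.2.2.2.2 v hvD hev
      have h4 := hdv.2.2 (f a) h2.2.2.2.1 (fun hh => h3 hh.symm)
      have h5 : s a ∈ D := (WSet_comm h h2.2.2.2.1 hvW h3).1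
      refine ⟨(hES _).2 (Or.inr ⟨h5, h4⟩), fun h6 => ?_⟩
      exact absurd h6 (ne_one_of_mem h h5)
  have hvfv : ∀ a ∈ ES, v * f a * v = f a * s a := by
    intro a ha
    show v * f a * v = f a * (f a * (v * f a * v))
    rw [← mul_assoc (f a) (f a), hfsq a ha, one_mul]
  have hsmul : ∀ a ∈ ES, ∀ b ∈ ES, s (a * b) = s a * s b := by
    intro a ha b hb
    have h1 : Commute (v * f a * v) (f b) := by
      rw [hvfv a ha]
      exact (hff a ha b hb).mul_left (hfE b hb (s a) (hsES a ha).1).symm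
    simp only [hs, hfmul a ha b hb]
    calc f a * f b * (v * (f a * f b) * v) = f a * f b * (v * f a * 1 * f b * v) := by group
      _ = f a * f b * (v * f a * (v * v) * f b * v) := by rw [hvv]
      _ = f a * (f b * (v * f a * v)) * (v * f b * v) := by group
      _ = f a * ((v * f a * v) * f b) * (v * f b * v) := by rw [h1.eq]
      _ = _ := by group
  have hsinj : ∀ a ∈ ES, ∀ b ∈ ES, s a = s b → a = b := by
    intro a ha b hb hab
    have h1 : s (a * b) = 1 := by
      rw [hsmul a ha b hb, hab, ← hsmul b hb b hb, hsq b hb, hs1]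
    have h2 := (hsES _ (mul_mem ha hb)).2 h1
    calc a = a * (b * b) := by rw [hsq b hb, mul_one]
      _ = (a * b) * b := by group
      _ = b := by rw [h2, one_mul]
  have hssurj : ∀ a ∈ ES, ∃ b ∈ ES, s b = a := by
    let S' : ↥ES → ↥ES := fun a => ⟨s a, (hsES a a.2).1⟩
    have hinj : Function.Injective S' := by
      intro a b hab
      exact Subtype.ext (hsinj a a.2 b b.2 (congrArg Subtype.val hab))
    have hsur := Finite.surjective_of_injective hinj
    intro a ha
    obtain ⟨b, hb⟩ := hsur ⟨a, ha⟩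
    exact ⟨b, b.2, congrArg Subtype.val hb⟩
  -- the module
  set inM : G → Prop := fun m => ∃ a ∈ ES, ∃ b ∈ ES, m = a * f b with hinM
  have hMe : ∀ m, inM m → inM (e * m * e) := by
    rintro m ⟨a, ha, b, hb, rfl⟩
    refine ⟨a, ha, a * b, mul_mem ha hb, ?_⟩
    calc e * (a * f b) * e = e * a * (f b * e) := by group
      _ = e * a * (e * f b) := by rw [(hfe b hb).eq]
      _ = (e * a * e) * f b := by group
      _ = a * f a * f b := by rw [heae a ha]
      _ = a * f (a * b) := by rw [hfmul a ha b hb, mul_assoc]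
  have hMv : ∀ m, inM m → inM (v * m * v) := by
    rintro m ⟨a, ha, b, hb, rfl⟩
    refine ⟨a * s b, mul_mem ha (hsES b hb).1, b, hb, ?_⟩
    calc v * (a * f b) * v = (v * a) * f b * v := by group
      _ = (a * v) * f b * v := by rw [(hWE v hvW a ha).eq]
      _ = a * (v * f b * v) := by group
      _ = a * (f b * s b) := by rw [hvfv b hb]
      _ = a * (s b * f b) := by rw [(hfE b hb (s b) (hsES b hb).1).eq]
      _ = a * s b * f b := (mul_assoc _ _ _).symm
  obtain ⟨m, hm⟩ := Opp.exists_conj_pow hvv hee (Opp.symm' h he hvD hev)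
  set g : G := (v * e) ^ m with hg
  have hMg : ∀ n : ℕ, ∀ x, inM x → inM ((v * e) ^ n * x * ((v * e) ^ n)⁻¹) := by
    intro n
    induction n with
    | zero => intro x hx; simpa using hx
    | succ n ih =>
      intro x hx
      have h1 := hMv _ (hMe _ (ih x hx))
      have e1 : (v * e) ^ (n + 1) * x * ((v * e) ^ (n + 1))⁻¹ =
          v * (e * ((v * e) ^ n * x * ((v * e) ^ n)⁻¹) * e) * v := by
        rw [pow_succ' (v * e) n, mul_inv_rev, mul_inv_rev, inv_of_sq hee, inv_of_sq hvv]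
        group
      rw [e1]; exact h1
  -- conjugation by `g` maps `E(d)` to the image of `f`
  have hgf : ∀ a ∈ ES, ∃ b ∈ ES, g * a * g⁻¹ = f b := by
    intro a ha
    have h1 : inM a := ⟨a, ha, 1, one_mem _, by rw [hf1, mul_one]⟩
    obtain ⟨a', ha', b', hb', hab⟩ := hMg m a h1
    rw [← hg] at hab
    have h2 : Commute (g * a * g⁻¹) e := by
      rw [← hm]
      exact (commute_conj_iff' g a v).2 (hWE v hvW a ha).symm
    have h3 : e * (a' * f b') * e = a' * f b' := by
      rw [← hab, ← h2.eq, mul_assoc, hee, mul_one]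
    have h4 : e * (a' * f b') * e = a' * f a' * f b' := by
      calc e * (a' * f b') * e = e * a' * (f b' * e) := by group
        _ = e * a' * (e * f b') := by rw [(hfe b' hb').eq]
        _ = (e * a' * e) * f b' := by group
        _ = a' * f a' * f b' := by rw [heae a' ha']
    have h5 : f a' = 1 := by
      rw [h3] at h4
      have : a' * 1 = a' * f a' := by
        rw [mul_one]; exact mul_right_cancel h4
      exact (mul_left_cancel this).symm
    have h6 := hfne a' ha' h5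
    refine ⟨b', hb', ?_⟩
    rw [hab, h6, one_mul]
  have hdES : d ∈ ES := (hES d).2 (Or.inr ⟨hd, SimR.refl D d⟩)
  have hgfsurj : ∀ b ∈ ES, ∃ a ∈ ES, g * a * g⁻¹ = f b := by
    choose t ht1 ht2 using hgf
    let T : ↥ES → ↥ES := fun a => ⟨t a a.2, ht1 a a.2⟩
    have hinj : Function.Injective T := by
      intro a b hab
      have h1 : t a a.2 = t b b.2 := congrArg Subtype.val hab
      have h2 := ht2 a a.2
      rw [h1, ← ht2 b b.2] at h2
      exact Subtype.ext (by simpa using h2)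
    have hsur := Finite.surjective_of_injective hinj
    intro b hb
    obtain ⟨a, ha⟩ := hsur ⟨b, hb⟩
    refine ⟨a, a.2, ?_⟩
    rw [ht2 a a.2]
    exact congrArg f (congrArg Subtype.val ha)
  -- conclusion
  have hzD : g * d * g⁻¹ ∈ D := h.conj_mem d hd g
  have hP2 : ∀ a ∈ D, SimR D a d → SimR D (a * (e * a * e)) (g * d * g⁻¹) := by
    intro a ha hsa
    obtain ⟨b, hb, hgb⟩ := hgfsurj a ((hES a).2 (Or.inr ⟨ha, hsa⟩))
    have hb1 : b ≠ 1 := by
      rintro rfl
      have h1 : f a = 1 := by rw [← hgb]; group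
      exact ne_one_of_mem h (key a ha hsa).2.1 h1
    have hb2 : b ∈ D ∧ SimR D b d := ((hES b).1 hb).resolve_left hb1
    show SimR D (f a) (g * d * g⁻¹)
    rw [← hgb]
    exact hb2.2.conj h g
  refine ⟨g * d * g⁻¹, hzD, ?_, ?_, ?_, hP2, ?_⟩
  · obtain ⟨b, hb, hgb⟩ := hgf d hdES
    rw [hgb]
    rcases hfW b hb with h1 | h1
    · exfalso
      rw [h1, hf1] at hgb
      rw [hgb] at hzD
      exact ne_one_of_mem h hzD rfl
    · exact h1
  · have h1 := deep_conj h hdv g
    rwa [hm] at h1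
  · intro z' hz' hsz
    have h1 : g⁻¹ * z' * g ∈ D := by
      have := h.conj_mem z' hz' g⁻¹
      rwa [inv_inv] at this
    have e1 : z' = g * (g⁻¹ * z' * g) * g⁻¹ := by group
    have h2 : SimR D (g⁻¹ * z' * g) d := by
      rw [e1] at hsz
      exact (simR_conj_iff h g _ _).1 hsz
    obtain ⟨b, hb, hgb⟩ := hgf _ ((hES _).2 (Or.inr ⟨h1, h2⟩))
    rw [← e1] at hgb
    have hb1 : b ≠ 1 := by
      rintro rfl
      rw [hf1] at hgb
      rw [hgb] at hz'
      exact ne_one_of_mem h hz' rfl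
    have hb2 : b ∈ D ∧ SimR D b d := ((hES b).1 hb).resolve_left hb1
    exact ⟨b, hb2.1, hb2.2, hgb⟩
  · intro a ha hsa
    obtain ⟨b, hb, hsb⟩ := hssurj a ((hES a).2 (Or.inr ⟨ha, hsa⟩))
    have hb1 : b ≠ 1 := by
      rintro rfl
      rw [hs1] at hsb
      rw [← hsb] at ha
      exact ne_one_of_mem h ha rfl
    have hb2 : b ∈ D ∧ SimR D b d := ((hES b).1 hb).resolve_left hb1
    exact ⟨f b, (key b hb2.1 hb2.2).2.1, hP2 b hb2.1 hb2.2, hsb.symm⟩

end Cfsg.Agent.H737
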