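import Mathlib
import Cfsg.Prelude.Def_RootSubgroups

/-!
# Root involutions: dihedral calculus

Basic facts on a set `D` of root involutions (`Cfsg.IsRootInvolutionSet`).  `Opp a b` means that
`a ≠ b` and `a * b` has odd order.

* `opp_trichotomy`: two members commute, are opposite, or have product of order 4 with square in `D`.
* `not_commute_of_opp`: on a line `{a, b, ab}` no member of `D` is opposite to `a` and commutes with `b`.
* `opp_or_opp_of_line`: on a line `{a, b, ab}` a member of `D` opposite to `b` is opposite to `a`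
  or to `a * b`.
-/

set_option autoImplicit false

namespace Cfsg.Agent.H737

variable {G : Type*} [Group G]

/-- `a` and `b` are different and `a * b` has odd order. -/
def Opp (a b : G) : Prop := a ≠ b ∧ Odd (orderOf (a * b))

theorem inv_of_sq {a : G} (ha : a * a = 1) : a⁻¹ = a := inv_eq_of_mul_eq_one_left ha

theorem eq_one_of_odd_of_sq {x : G} (hx : Odd (orderOf x)) (h : x * x = 1) : x = 1 := by
  have h2 : orderOf x ∣ 2 := orderOf_dvd_of_pow_eq_one (by rw [pow_two, h])
  have h3 : orderOf x = 1 := by
    rcases (Nat.dvd_prime Nat.prime_two).1 h2 with h4 | h4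
    · exact h4
    · rw [h4] at hx; exact absurd hx (by decide)
  exact orderOf_eq_one_iff.1 h3

/-- An element of odd order is a power of its square. -/
theorem exists_pow_sq {x : G} (hx : Odd (orderOf x)) : ∃ k : ℕ, (x ^ 2) ^ k = x := by
  obtain ⟨m, hm⟩ := hx
  refine ⟨m + 1, ?_⟩
  rw [← pow_mul, show 2 * (m + 1) = orderOf x + 1 by omega, pow_succ, pow_orderOf_eq_one, one_mul]

theorem commute_of_commute_sq {g x : G} (hx : Odd (orderOf x)) (h : Commute g (x ^ 2)) :
    Commute g x := by
  obtain ⟨k, hk⟩ := exists_pow_sq hx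
  rw [← hk]
  exact h.pow_right k

theorem commute_of_commute_mul_self {g x : G} (hx : Odd (orderOf x)) (h : Commute g (x * x)) :
    Commute g x :=
  commute_of_commute_sq hx (by rwa [pow_two])

theorem Opp.symm {a b : G} (ha : a * a = 1) (hb : b * b = 1) (h : Opp a b) : Opp b a := by
  refine ⟨h.1.symm, ?_⟩
  have h1 : b * a = (a * b)⁻¹ := by rw [mul_inv_rev, inv_of_sq ha, inv_of_sq hb]
  rw [h1, orderOf_inv]
  exact h.2

theorem orderOf_conj' (g x : G) : orderOf (g * x * g⁻¹) = orderOf x :=
  orderOf_injective (MulAut.conj g).toMonoidHom (MulAut.conj g).injective x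

theorem opp_conj (g a b : G) : Opp (g * a * g⁻¹) (g * b * g⁻¹) ↔ Opp a b := by
  unfold Opp
  have h1 : g * a * g⁻¹ * (g * b * g⁻¹) = g * (a * b) * g⁻¹ := by group
  rw [h1, orderOf_conj']
  have h2 : g * a * g⁻¹ ≠ g * b * g⁻¹ ↔ a ≠ b := by
    rw [ne_eq, ne_eq, not_iff_not]
    constructor
    · intro h
      simpa using h
    · rintro rfl; rfl
  rw [h2]

theorem Opp.not_commute {a b : G} (ha : a * a = 1) (hb : b * b = 1) (h : Opp a b) :
    ¬ Commute a b := by
  intro hc
  apply h.1
  have h1 : a * b = 1 := by
    apply eq_one_of_odd_of_sq h.2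
    calc a * b * (a * b) = a * (b * a) * b := by group
      _ = a * (a * b) * b := by rw [hc.eq]
      _ = (a * a) * (b * b) := by group
      _ = 1 := by rw [ha, hb, one_mul]
  calc a = a * (b * b) := by rw [hb, mul_one]
    _ = (a * b) * b := by group
    _ = b := by rw [h1, one_mul]

/-- For involutions `x`, `p` with product of order 4, `p x p` commutes with `x`. -/
theorem commute_of_order_four {x p : G} (hx : x * x = 1) (hp : p * p = 1)
    (h : orderOf (x * p) = 4) : Commute x (p * x * p) := by
  have h4 : (x * p) ^ 4 = 1 := by rw [← h, pow_orderOf_eq_one]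
  have h5 : x * (p * x * p) * (x * (p * x * p)) = 1 := by
    rw [← h4]; simp only [pow_succ, pow_zero, one_mul, mul_assoc]
  have hq : p * x * p * (p * x * p) = 1 := by
    calc p * x * p * (p * x * p) = p * x * (p * p) * x * p := by group
      _ = p * (x * x) * p := by rw [hp]; group
      _ = 1 := by rw [hx, mul_one, hp]
  have h6 : (x * (p * x * p))⁻¹ = x * (p * x * p) := inv_of_sq h5
  rw [mul_inv_rev, inv_of_sq hx, inv_of_sq hq] at h6
  exact h6.symm

section Root

variable {D : Set G}

theorem sq_of_mem (h : IsRootInvolutionSet D) {a : G} (ha : a ∈ D) : a * a = 1 := by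
  rw [← pow_two, ← h.orderOf_eq a ha, pow_orderOf_eq_one]

theorem ne_one_of_mem (h : IsRootInvolutionSet D) {a : G} (ha : a ∈ D) : a ≠ 1 := by
  rintro rfl
  have := h.orderOf_eq 1 ha
  simp at this

theorem inv_of_mem (h : IsRootInvolutionSet D) {a : G} (ha : a ∈ D) : a⁻¹ = a :=
  inv_of_sq (sq_of_mem h ha)

theorem conj_mem' (h : IsRootInvolutionSet D) {a x : G} (ha : a ∈ D) (hx : x ∈ D) :
    x * a * x ∈ D := by
  have := h.conj_mem a ha x
  rwa [inv_of_mem h hx] at this

/-- Two members of a set of root involutions commute, are opposite, or have product of order 4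
whose square is a member. -/
theorem opp_trichotomy (h : IsRootInvolutionSet D) {a b : G} (ha : a ∈ D) (hb : b ∈ D) :
    Commute a b ∨ Opp a b ∨ (orderOf (a * b) = 4 ∧ a * (b * a * b) ∈ D) := by
  rcases h.pair a ha b hb with h1 | h1 | h1
  · exact Or.inl h1
  · by_cases hab : a = b
    · subst hab; exact Or.inl (Commute.refl _)
    · exact Or.inr (Or.inl ⟨hab, h1⟩)
  · refine Or.inr (Or.inr ⟨h1.1, ?_⟩)
    have := h1.2
    rw [pow_two] at this
    simpa only [mul_assoc] using this

theorem order_four_of (h : IsRootInvolutionSet D) {a b : G} (ha : a ∈ D) (hb : b ∈ D)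
    (hc : ¬ Commute a b) (ho : ¬ Opp a b) : orderOf (a * b) = 4 ∧ a * (b * a * b) ∈ D := by
  rcases opp_trichotomy h ha hb with h1 | h1 | h1
  · exact absurd h1 hc
  · exact absurd h1 ho
  · exact h1

theorem mem_of_order_four (h : IsRootInvolutionSet D) {a b : G} (ha : a ∈ D) (hb : b ∈ D)
    (h4 : orderOf (a * b) = 4) : a * (b * a * b) ∈ D := by
  rcases h.pair a ha b hb with h1 | h1 | h1
  · exfalso
    have h2 : (a * b) * (a * b) = 1 := by
      calc a * b * (a * b) = a * (b * a) * b := by group
        _ = a * (a * b) * b := by rw [← h1]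
        _ = (a * a) * (b * b) := by group
        _ = 1 := by rw [sq_of_mem h ha, sq_of_mem h hb, one_mul]
    have h3 : orderOf (a * b) ∣ 2 := orderOf_dvd_of_pow_eq_one (by rw [pow_two, h2])
    rw [h4] at h3
    revert h3; decide
  · rw [h4] at h1; exact absurd h1 (by decide)
  · have := h1.2
    rw [pow_two] at this
    simpa only [mul_assoc] using this

theorem not_commute_of_order_four (h : IsRootInvolutionSet D) {a b : G} (ha : a ∈ D) (hb : b ∈ D)
    (h4 : orderOf (a * b) = 4) : ¬ Commute a b := by
  intro h1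
  have h2 : (a * b) * (a * b) = 1 := by
    calc a * b * (a * b) = a * (b * a) * b := by group
      _ = a * (a * b) * b := by rw [← h1.eq]
      _ = (a * a) * (b * b) := by group
      _ = 1 := by rw [sq_of_mem h ha, sq_of_mem h hb, one_mul]
  have h3 : orderOf (a * b) ∣ 2 := orderOf_dvd_of_pow_eq_one (by rw [pow_two, h2])
  rw [h4] at h3
  revert h3; decide

theorem not_opp_of_order_four {a b : G} (h4 : orderOf (a * b) = 4) : ¬ Opp a b := by
  intro h1
  have := h1.2
  rw [h4] at this
  exact absurd this (by decide)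

theorem Opp.symm' (h : IsRootInvolutionSet D) {a b : G} (ha : a ∈ D) (hb : b ∈ D)
    (hab : Opp a b) : Opp b a :=
  Opp.symm (sq_of_mem h ha) (sq_of_mem h hb) hab

theorem Opp.ncomm (h : IsRootInvolutionSet D) {a b : G} (ha : a ∈ D) (hb : b ∈ D)
    (hab : Opp a b) : ¬ Commute a b :=
  Opp.not_commute (sq_of_mem h ha) (sq_of_mem h hb) hab

/-- The product of two members of `D` is not the product of an element of odd order `> 1` and a
commuting involution. -/
theorem not_odd_mul_two (h : IsRootInvolutionSet D) {a b x t : G} (ha : a ∈ D) (hb : b ∈ D)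
    (hx : Odd (orderOf x)) (hx1 : x ≠ 1) (ht : t * t = 1) (ht1 : t ≠ 1) (hc : Commute x t)
    (he : a * b = x * t) : False := by
  rcases opp_trichotomy h ha hb with h1 | h1 | h1
  · have h2 : (a * b) * (a * b) = 1 := by
      calc a * b * (a * b) = a * (b * a) * b := by group
        _ = a * (a * b) * b := by rw [← h1.eq]
        _ = (a * a) * (b * b) := by group
        _ = 1 := by rw [sq_of_mem h ha, sq_of_mem h hb, one_mul]
    rw [he] at h2
    have h3 : x * x = 1 := by
      calc x * x = (x * x) * (t * t) := by rw [ht, mul_one]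
        _ = x * (x * t) * t := by group
        _ = x * (t * x) * t := by rw [hc.eq]
        _ = x * t * (x * t) := by group
        _ = 1 := h2
    exact hx1 (eq_one_of_odd_of_sq hx h3)
  · have h2 : (x * t) ^ orderOf (a * b) = 1 := by rw [← he, pow_orderOf_eq_one]
    rw [hc.mul_pow] at h2
    obtain ⟨k, hk⟩ := h1.2
    have h3 : t ^ orderOf (a * b) = t := by
      rw [hk, pow_succ, pow_mul, pow_two, ht, one_pow, one_mul]
    rw [h3] at h2
    have h4 : t = (x ^ orderOf (a * b))⁻¹ := eq_inv_of_mul_eq_one_right h2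
    have h5 : t ^ orderOf x = 1 := by
      rw [h4, inv_pow, ← pow_mul, mul_comm, pow_mul, pow_orderOf_eq_one, one_pow, inv_one]
    obtain ⟨l, hl⟩ := hx
    apply ht1
    rw [hl, pow_succ, pow_mul, pow_two, ht, one_pow, one_mul] at h5
    exact h5
  · have h2 : (x * t) ^ 4 = 1 := by rw [← he, ← h1.1, pow_orderOf_eq_one]
    rw [hc.mul_pow, show (4 : ℕ) = 2 * 2 from rfl, pow_mul t, pow_two t, ht, one_pow, mul_one] at h2
    have h3 : orderOf x ∣ 2 * 2 := orderOf_dvd_of_pow_eq_one h2
    have h4 : Nat.Coprime (orderOf x) 2 := hx.coprime_two_right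
    have h5 : orderOf x ∣ 2 := h4.dvd_of_dvd_mul_left h3
    have h6 : orderOf x ∣ 1 := h4.dvd_of_dvd_mul_left (by simpa using h5)
    exact hx1 (orderOf_eq_one_iff.1 (Nat.dvd_one.1 h6))

/-- On a line `{a, b, ab}` no member of `D` is opposite to `a` and commutes with `b`. -/
theorem not_commute_of_opp (h : IsRootInvolutionSet D) {a b c : G} (ha : a ∈ D) (hb : b ∈ D)
    (hab : Commute a b) (habD : a * b ∈ D) (hc : c ∈ D) (ho : Opp c a) : ¬ Commute c b := by
  intro hcb
  refine not_odd_mul_two h hc habD ho.2 ?_ (sq_of_mem h hb) (ne_one_of_mem h hb)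
    (hcb.mul_left hab) (by group)
  intro h1
  apply ho.1
  calc c = c * (a * a) := by rw [sq_of_mem h ha, mul_one]
    _ = (c * a) * a := by group
    _ = a := by rw [h1, one_mul]

/-- On a line `{a, b, ab}` a member of `D` opposite to `b` is opposite to `a` or to `a * b`. -/
theorem opp_or_opp_of_line (h : IsRootInvolutionSet D) {a b c : G} (ha : a ∈ D) (hb : b ∈ D)
    (hab : Commute a b) (habD : a * b ∈ D) (hc : c ∈ D) (ho : Opp c b) :
    Opp c a ∨ Opp c (a * b) := by
  by_contra hcon
  push Not at hcon
  obtain ⟨n1, n2⟩ := hcon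
  have haa := sq_of_mem h ha
  have hbb := sq_of_mem h hb
  have hcc := sq_of_mem h hc
  have hdd := sq_of_mem h habD
  -- `c` commutes neither with `a` nor with `ab`
  have hbaD : b * a ∈ D := by rwa [← hab.eq]
  have hca : ¬ Commute c a := not_commute_of_opp h hb ha hab.symm hbaD hc ho
  have hcd : ¬ Commute c (a * b) := by
    refine not_commute_of_opp h hb habD (hab.symm.mul_right (Commute.refl b)) ?_ hc ho
    have : b * (a * b) = a := by rw [← mul_assoc, ← hab.eq, mul_assoc, hbb, mul_one]
    rw [this]; exact ha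
  have h1 : Commute c (a * c * a) :=
    commute_of_order_four hcc haa (order_four_of h hc ha hca n1).1
  have h3 : Commute c (a * b * c * (a * b)) :=
    commute_of_order_four hcc hdd (order_four_of h hc habD hcd n2).1
  set c1 : G := a * c * a with hc1
  set c3 : G := a * b * c * (a * b) with hc3
  have e1 : c3 = b * c1 * b := by
    rw [hc3, hc1]
    calc a * b * c * (a * b) = (a * b) * c * (a * b) := rfl
      _ = (b * a) * c * (a * b) := by rw [hab.eq]
      _ = b * (a * c * a) * b := by group
  have e2 : c1 = b * c3 * b := by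
    rw [e1]
    calc c1 = (b * b) * c1 * (b * b) := by rw [hbb]; group
      _ = b * (b * c1 * b) * b := by group
  have h4 : Commute c3 (b * c * b) := by
    rw [e1]
    show b * c1 * b * (b * c * b) = b * c * b * (b * c1 * b)
    calc b * c1 * b * (b * c * b) = b * c1 * (b * b) * c * b := by group
      _ = b * (c1 * c) * b := by rw [hbb]; group
      _ = b * (c * c1) * b := by rw [h1.eq]
      _ = b * c * (b * b) * c1 * b := by rw [hbb]; group
      _ = b * c * b * (b * c1 * b) := by group
  have h5 : Commute c3 (b * c * (b * c)) := by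
    have : b * c * (b * c) = (b * c * b) * c := by group
    rw [this]
    exact h4.mul_right h3.symm
  have hbc : Opp b c := Opp.symm' h hc hb ho
  have h6 : Commute c3 (b * c) := commute_of_commute_mul_self hbc.2 h5
  have h7 : Commute c3 b := by
    have : b = (b * c) * c := by rw [mul_assoc, hcc, mul_one]
    rw [this]
    exact h6.mul_right h3.symm
  have h8 : c1 = c3 := by
    rw [e2, mul_assoc, h7.eq, ← mul_assoc, hbb, one_mul]
  have h9 : Commute c1 b := by rw [h8]; exact h7
  apply Opp.ncomm h hc hb ho
  have e3 : c = a * c1 * a := by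
    rw [hc1]
    calc c = (a * a) * c * (a * a) := by rw [haa]; group
      _ = a * (a * c * a) * a := by group
  rw [e3]
  exact (hab.mul_left h9).mul_left hab

/-- If `c` is opposite to `a`, but not to `b`, on a line `{a, b, ab}`, then `c * b` has order 4. -/
theorem order_four_of_opp (h : IsRootInvolutionSet D) {a b c : G} (ha : a ∈ D) (hb : b ∈ D)
    (hab : Commute a b) (habD : a * b ∈ D) (hc : c ∈ D) (ho : Opp c a) (hn : ¬ Opp c b) :
    orderOf (c * b) = 4 :=
  (order_four_of h hc hb (not_commute_of_opp h ha hb hab habD hc ho) hn).1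

end Root

end Cfsg.Agent.H737
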