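import Mathlib
import Cfsg.Agent.H737.RootDeep

/-!
# Root involutions: the commutators of `W_d` lie in `E(d)`

`all_deep`: if every class `E_d ∪ {1}` is a subgroup, then the commutators of the members of `W_d`
lie in `E_d ∪ {1}`.
-/

set_option autoImplicit false

namespace Cfsg.Agent.H737

open Cfsg
open scoped commutatorElement

variable {G : Type*} [Group G] {D : Set G}

/-- The commutators of `v` with `W_d` have all their commutators with `W_d` in the class of `d`. -/
def Deep2 (D : Set G) (d v : G) : Prop :=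
  v ∈ WSet D d ∧ ∀ y ∈ WSet D d, ¬ Commute v y → ∀ x ∈ WSet D d,
    ¬ Commute (y * (v * y * v)) x → SimR D (x * ((y * (v * y * v)) * x * (y * (v * y * v)))) d

theorem deep2_conj (h : IsRootInvolutionSet D) {d v : G} (hv : Deep2 D d v) (g : G) :
    Deep2 D (g * d * g⁻¹) (g * v * g⁻¹) := by
  have hback : ∀ x ∈ WSet D (g * d * g⁻¹), g⁻¹ * x * g ∈ WSet D d := by
    intro x hx
    have h2 := WSet_conj h hx g⁻¹
    have e2 : g⁻¹ * (g * d * g⁻¹) * g⁻¹⁻¹ = d := by group
    rwa [e2, inv_inv] at h2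
  refine ⟨WSet_conj h hv.1 g, ?_⟩
  intro y hy hn x hx hnx
  have e1 : y = g * (g⁻¹ * y * g) * g⁻¹ := by group
  have e2 : x = g * (g⁻¹ * x * g) * g⁻¹ := by group
  have h3 : ¬ Commute v (g⁻¹ * y * g) := by
    intro hh
    apply hn
    rw [e1]
    exact (commute_conj_iff' g _ _).2 hh
  have e3 : y * (g * v * g⁻¹ * y * (g * v * g⁻¹)) =
      g * ((g⁻¹ * y * g) * (v * (g⁻¹ * y * g) * v)) * g⁻¹ := by group
  have h4 : ¬ Commute ((g⁻¹ * y * g) * (v * (g⁻¹ * y * g) * v)) (g⁻¹ * x * g) := by
    intro hh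
    apply hnx
    rw [e3, e2]
    have := (commute_conj_iff' g _ _).2 hh
    exact this
  have h5 := hv.2 _ (hback y hy) h3 _ (hback x hx) h4
  rw [e3]
  have h6 := (simR_conj_iff h g _ _).2 h5
  have e4 : g * ((g⁻¹ * x * g) * ((g⁻¹ * y * g) * (v * (g⁻¹ * y * g) * v) * (g⁻¹ * x * g) *
      ((g⁻¹ * y * g) * (v * (g⁻¹ * y * g) * v)))) * g⁻¹ =
      x * (g * ((g⁻¹ * y * g) * (v * (g⁻¹ * y * g) * v)) * g⁻¹ * x *
        (g * ((g⁻¹ * y * g) * (v * (g⁻¹ * y * g) * v)) * g⁻¹)) := by group
  rwa [e4] at h6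

/-- A member `x` of `W_d` opposite to `e`, with a commutator outside the class of `d`, has no
product in `D` with a member of the class of `d`. -/
theorem bad_mem [Finite G] (h : IsRootInvolutionSet D) (hc : IsConnectedSet (OddAdj D) D)
    (hES : ∀ d ∈ D, ∃ ES : Subgroup G, ∀ x, x ∈ ES ↔ x = 1 ∨ (x ∈ D ∧ SimR D x d))
    {d z e x : G} (hd : d ∈ D) (he : e ∈ D) (hzW : z ∈ WSet D d) (hze : Deep D z e)
    (hP1 : ∀ z' ∈ D, SimR D z' z → ∃ a ∈ D, SimR D a d ∧ z' = a * (e * a * e))
    (hP2 : ∀ a ∈ D, SimR D a d → SimR D (a * (e * a * e)) z)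
    (hW : ∀ a ∈ D, SimR D a d → a * (e * a * e) ∈ WSet D d)
    (hx : x ∈ WSet D d) (hex : Opp e x)
    (hxn : ∃ y ∈ WSet D d, ¬ Commute x y ∧ ¬ SimR D (y * (x * y * x)) d)
    {a : G} (ha : a ∈ D) (hsa : SimR D a d) : x * a ∉ D := by
  intro hxa
  have hzD := hzW.1
  have hxD := hx.1
  have hxx := sq_of_mem h hxD
  have haa := sq_of_mem h ha
  have hee := sq_of_mem h he
  have hxe : Opp x e := Opp.symm' h he hxD hex
  obtain ⟨ES, hES'⟩ := hES z hzD
  obtain ⟨b, hbD, _, hbx, P1, -, P3⟩ :=
    deep_pair h hc hzD hES' hze hxD hxe (WSet_not_opp hx hzW)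
  have hz'W := hW a ha hsa
  obtain ⟨b', hb'D, hsb', hz'b'⟩ := P3 _ hz'W.1 (hP2 a ha hsa)
  obtain ⟨z'', hz''D, hsz'', hb'z''⟩ := P1 b' hb'D hsb'
  have hz''W : z'' ∈ WSet D d := by
    obtain ⟨a', ha', hsa', hza'⟩ := hP1 z'' hz''D hsz''
    rw [hza']; exact hW a' ha' hsa'
  have hb'a : b' ≠ a := by
    rintro rfl
    obtain ⟨y, hy, hny, hnS⟩ := hxn
    have h1 : SimR D b d := hsb'.symm.trans hsa
    exact hnS ((hbx.2.2 y (WSet_of_sim h hc hbD hd h1 hy) hny).trans h1)
  have hbb := sq_of_mem h hb'D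
  have hzz := sq_of_mem h hz''D
  have hnz : ¬ Commute z'' x := by
    intro hcom
    apply ne_one_of_mem h hb'D
    rw [hb'z'', ← hcom.eq, mul_assoc, hxx, mul_one, hzz]
  have hb'W : b' ∈ WSet D d := by rw [hb'z'']; exact WSet_comm h hz''W hx hnz
  have c1 : Commute b' a := WSet_commute_sim h hc hd ha hsa hb'W
  have c2 : Commute x a := WSet_commute_sim h hc hd ha hsa hx
  have c3 : Commute x b' := WSet_commute_sim h hc hbD hb'D hsb' hbx.1
  have c4 : Commute (a * (e * a * e)) a := WSet_commute_sim h hc hd ha hsa hz'W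
  have c5 : Commute z'' a := WSet_commute_sim h hc hd ha hsa hz''W
  have ht1 : b' * a ≠ 1 := by
    intro h1
    apply hb'a
    calc b' = (b' * a) * a := by rw [mul_assoc, haa, mul_one]
      _ = a := by rw [h1, one_mul]
  have htt : (b' * a) * (b' * a) = 1 := by
    calc (b' * a) * (b' * a) = b' * (a * b') * a := by group
      _ = b' * (b' * a) * a := by rw [← c1.eq]
      _ = (b' * b') * (a * a) := by group
      _ = 1 := by rw [hbb, haa, one_mul]
  -- `t = b' a` commutes with `e`
  have e1 : e * b' * e = b' * (a * (e * a * e)) := by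
    rw [hz'b', ← mul_assoc b' b', hbb, one_mul]
  have e2 : e * a * e = (a * (e * a * e)) * a := by
    rw [c4.eq, ← mul_assoc a a, haa, one_mul]
  have hz's : (a * (e * a * e)) * (a * (e * a * e)) = 1 := sq_of_mem h hz'W.1
  have c6 : Commute (b' * a) e := by
    have e3 : e * (b' * a) * e = b' * a := by
      calc e * (b' * a) * e = e * b' * 1 * a * e := by group
        _ = e * b' * (e * e) * a * e := by rw [hee]
        _ = (e * b' * e) * (e * a * e) := by group
        _ = (b' * (a * (e * a * e))) * ((a * (e * a * e)) * a) := by rw [e1, ← e2]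
        _ = b' * ((a * (e * a * e)) * (a * (e * a * e))) * a := by group
        _ = b' * a := by rw [hz's, mul_one]
    show b' * a * e = e * (b' * a)
    calc b' * a * e = (e * (b' * a) * e) * e := by rw [e3]
      _ = e * (b' * a) * (e * e) := by group
      _ = e * (b' * a) := by rw [hee, mul_one]
  have c7 : Commute (b' * a) x := (c3.symm).mul_left c2.symm
  have hmem : (b' * a) * x ∈ D := by
    have h1 := conj_mem' h hxa hz''D
    have e4 : z'' * (x * a) * z'' = (b' * a) * x := by
      calc z'' * (x * a) * z'' = z'' * x * (a * z'') := by group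
        _ = z'' * x * (z'' * a) := by rw [c5.eq]
        _ = z'' * x * z'' * a := by group
        _ = z'' * (x * z'' * (x * x)) * a := by rw [hxx]; group
        _ = (z'' * (x * z'' * x)) * x * a := by group
        _ = b' * x * a := by rw [← hb'z'']
        _ = b' * (x * a) := by group
        _ = b' * (a * x) := by rw [c2.eq]
        _ = (b' * a) * x := by group
    rwa [e4] at h1
  refine not_odd_mul_two h hmem he (x := x * e) (t := b' * a) hxe.2 ?_ htt ht1 ?_ ?_
  · intro h1
    apply hxe.1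
    calc x = (x * e) * e := by rw [mul_assoc, hee, mul_one]
      _ = e := by rw [h1, one_mul]
  · exact (c7.symm).mul_left c6.symm
  · calc (b' * a) * x * e = x * (b' * a) * e := by rw [c7.eq]
      _ = x * ((b' * a) * e) := by group
      _ = x * (e * (b' * a)) := by rw [c6.eq]
      _ = x * e * (b' * a) := by group

/-- The commutator identity used in `all_deep` (a form of the Hall–Witt identity). -/
theorem hall_witt_inv {x w z v q δ : G} (hx : x * x = 1) (hw : w * w = 1) (hz : z * z = 1)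
    (hv : v * v = 1)
    (v1 : v = x * (w * x * w)) (v2 : v = w * (x * w * x)) (q1 : q = w * (z * w * z))
    (δ1 : δ = v * (z * v * z)) (hqx : q * x = x * q) (hδx : δ * x = x * δ)
    (hvx : v * x = x * v) (hvw : v * w = w * v) (hδv : δ * v = v * δ) :
    (x * (z * x * z)) * (w * (z * (x * z * x)) * w) = δ := by
  have a1 : z * w * z = w * q := by rw [q1, ← mul_assoc w w, hw, one_mul]
  have a2 : x * w * x = v * w := by rw [hvw, v2, ← mul_assoc w w, hw, one_mul]
  have a3 : w * q * z = z * w := by rw [← a1, mul_assoc, hz, mul_one]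
  have a4 : z * v * z = v * δ := by rw [δ1, ← mul_assoc v v, hv, one_mul]
  have a5 : w * x * w = x * v := by rw [v1, ← mul_assoc x x, hx, one_mul]
  calc (x * (z * x * z)) * (w * (z * (x * z * x)) * w)
      = x * z * x * (z * w * z) * x * z * x * w := by group
    _ = x * z * x * (w * q) * x * z * x * w := by rw [a1]
    _ = x * z * x * w * (q * x) * z * x * w := by group
    _ = x * z * x * w * (x * q) * z * x * w := by rw [hqx]
    _ = x * z * (x * w * x) * q * z * x * w := by group
    _ = x * z * (v * w) * q * z * x * w := by rw [a2]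
    _ = x * z * v * (w * q * z) * x * w := by group
    _ = x * z * v * (z * w) * x * w := by rw [a3]
    _ = x * (z * v * z) * (w * x * w) := by group
    _ = x * (v * δ) * (x * v) := by rw [a4, a5]
    _ = x * v * (δ * x) * v := by group
    _ = x * v * (x * δ) * v := by rw [hδx]
    _ = x * (v * x) * (δ * v) := by group
    _ = x * (x * v) * (v * δ) := by rw [hvx, hδv]
    _ = (x * x) * (v * v) * δ := by group
    _ = δ := by rw [hx, hv, one_mul, one_mul]

/-- **The commutators of `W_d` lie in `E(d)`.** -/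
theorem all_deep [Finite G] (h : IsRootInvolutionSet D) (hc : IsConnectedSet (OddAdj D) D)
    (hES : ∀ d ∈ D, ∃ ES : Subgroup G, ∀ x, x ∈ ES ↔ x = 1 ∨ (x ∈ D ∧ SimR D x d))
    {d : G} (hd : d ∈ D) :
    ∀ w ∈ WSet D d, ∀ y ∈ WSet D d, ¬ Commute w y → SimR D (y * (w * y * w)) d := by
  classical
  by_contra hcon
  push Not at hcon
  obtain ⟨w0, hw0, y0, hy0, hwy0, hns0⟩ := hcon
  set S : Set G := {w | w ∈ WSet D d ∧ ∃ y ∈ WSet D d, ¬ Commute w y ∧
    ¬ SimR D (y * (w * y * w)) d} with hS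
  have hnil : Group.IsNilpotent (Subgroup.closure (WSet D d) : Subgroup G) :=
    (WSet_isPGroup h d).isNilpotent
  obtain ⟨w1, hw1S, hw1⟩ := exists_deepest (Δ := WSet D d) (S := S) (fun w hw => hw.1)
    ⟨w0, hw0, y0, hy0, hwy0, hns0⟩ (fun h1 => ne_one_of_mem h h1.1.1 rfl) hnil
  have hw1W := hw1S.1
  have hw1D := hw1W.1
  have hww1 := sq_of_mem h hw1D
  have hD2 : Deep2 D d w1 := by
    refine ⟨hw1W, ?_⟩
    intro y hy hny x hx hnx
    by_contra hns
    apply hw1 y hy
    have hyy := sq_of_mem h hy.1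
    have h4 := WSet_order_four h hw1W hy hny
    have e1 : ⁅w1, y⁆ = y * (w1 * y * w1) := by
      rw [commutatorElement_def, inv_of_sq hww1, inv_of_sq hyy,
        ← comm_symm hww1 hyy h4]
      group
    rw [e1]
    refine ⟨?_, x, hx, hnx, hns⟩
    exact WSet_comm h hy hw1W (fun hh => hny hh.symm)
  obtain ⟨x0, hx0W, hnc0, hns⟩ := hw1S.2
  set v : G := x0 * (w1 * x0 * w1) with hv
  have hvW : v ∈ WSet D d := WSet_comm h hx0W hw1W (fun hh => hnc0 hh.symm)
  have hvD := hvW.1
  have hvv := sq_of_mem h hvD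
  have hdeep : Deep D d v := ⟨hvW, hns, fun x hx hnx => hD2.2 x0 hx0W hnc0 x hx hnx⟩
  obtain ⟨e, he, hev, hed⟩ := exists_opp_not_opp h hc hvD hd hns
  have hee := sq_of_mem h he
  -- adjust `x`
  obtain ⟨x, hxW, hnc1, hvx, hex⟩ : ∃ x ∈ WSet D d, ¬ Commute w1 x ∧ v = x * (w1 * x * w1) ∧
      Opp e x := by
    have hxx := sq_of_mem h hx0W.1
    have h4 := WSet_order_four h hx0W hw1W (fun hh => hnc0 hh.symm)
    have c1 : Commute x0 (w1 * x0 * w1) := commute_of_order_four hxx hww1 h4
    have e1 : x0 * v = w1 * x0 * w1 := by rw [hv, ← mul_assoc x0 x0, hxx, one_mul]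
    have h5 : w1 * x0 * w1 ∈ WSet D d := WSet_conj_comm h hx0W hw1D hw1W.2.1
    rcases opp_or_opp_of_line h hx0W.1 hvD ((Commute.refl x0).mul_right c1)
      (by rw [e1]; exact h5.1) he hev with h6 | h6
    · exact ⟨x0, hx0W, hnc0, hv, h6⟩
    · rw [e1] at h6
      refine ⟨w1 * x0 * w1, h5, ?_, ?_, h6⟩
      · intro hh
        apply hnc0
        have h7 := hh.eq
        show w1 * x0 = x0 * w1
        calc w1 * x0 = (w1 * x0) * (w1 * w1) := by rw [hww1, mul_one]
          _ = (w1 * x0 * w1) * w1 := by group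
          _ = w1 * (w1 * x0 * w1) := by rw [h7]
          _ = (w1 * w1) * x0 * w1 := by group
          _ = x0 * w1 := by rw [hww1, one_mul]
      · rw [hv, c1.eq]
        calc w1 * x0 * w1 * x0 = w1 * x0 * w1 * (1 * x0 * 1) := by group
          _ = w1 * x0 * w1 * ((w1 * w1) * x0 * (w1 * w1)) := by rw [hww1]
          _ = w1 * x0 * w1 * (w1 * (w1 * x0 * w1) * w1) := by group
  have hxD := hxW.1
  have hxx := sq_of_mem h hxD
  have hxw4 : orderOf (x * w1) = 4 := WSet_order_four h hxW hw1W (fun hh => hnc1 hh.symm)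
  -- adjust `w1`
  obtain ⟨w, hwW, hwD2, hnc, hvxw, hew⟩ : ∃ w ∈ WSet D d, Deep2 D d w ∧ ¬ Commute w x ∧
      v = x * (w * x * w) ∧ Opp e w := by
    have hv2 : v = w1 * (x * w1 * x) := by rw [hvx]; exact comm_symm hxx hww1 hxw4
    have c1 : Commute w1 (x * w1 * x) := by
      refine commute_of_order_four hww1 hxx ?_
      rw [orderOf_mul_comm' hww1 hxx]; exact hxw4
    have e1 : w1 * v = x * w1 * x := by rw [hv2, ← mul_assoc w1 w1, hww1, one_mul]
    have h5 : x * w1 * x ∈ WSet D d := WSet_conj_comm h hw1W hxD hxW.2.1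
    rcases opp_or_opp_of_line h hw1D hvD (by rw [hv2]; exact (Commute.refl w1).mul_right c1)
      (by rw [e1]; exact h5.1) he hev with h6 | h6
    · exact ⟨w1, hw1W, hD2, hnc1, hvx, h6⟩
    · rw [e1] at h6
      refine ⟨x * w1 * x, h5, ?_, ?_, ?_, h6⟩
      · have h7 := deep2_conj h hD2 x
        rw [inv_of_sq hxx, hxW.2.1.eq, mul_assoc d, hxx, mul_one] at h7
        exact h7
      · intro hh
        apply hnc1
        have h7 := hh.eq
        show w1 * x = x * w1
        calc w1 * x = (x * x) * (w1 * x) := by rw [hxx, one_mul]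
          _ = x * (x * w1 * x) := by group
          _ = (x * w1 * x) * x := by rw [h7]
          _ = x * w1 * (x * x) := by group
          _ = x * w1 := by rw [hxx, mul_one]
      · have e2 : (x * w1 * x) * x * (x * w1 * x) = x * w1 * x * w1 * x := by
          calc (x * w1 * x) * x * (x * w1 * x) = x * w1 * (x * x) * x * w1 * x := by group
            _ = _ := by rw [hxx, mul_one]
        rw [e2]
        calc v = w1 * (x * w1 * x) := hv2
          _ = (x * x) * (w1 * x * w1 * x) := by rw [hxx, one_mul]; group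
          _ = x * (x * w1 * x * w1 * x) := by group
  have hwD := hwW.1
  have hww := sq_of_mem h hwD
  have hxw4' : orderOf (x * w) = 4 := WSet_order_four h hxW hwW (fun hh => hnc hh.symm)
  have hvwx : v = w * (x * w * x) := by rw [hvxw]; exact comm_symm hxx hww hxw4'
  -- the classes attached to `e`
  obtain ⟨ES, hES'⟩ := hES d hd
  obtain ⟨z, hzD, hzW, hze, hP1, hP2, -⟩ := deep_pair h hc hd hES' hdeep he hev hed
  have key := fun (a : G) (ha : a ∈ D) (hs : SimR D a d) => comm_class h hc hd hvW he hev hed ha hs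
  have hW : ∀ a ∈ D, SimR D a d → a * (e * a * e) ∈ WSet D d := fun a ha hs =>
    (key a ha hs).2.2.2.1
  have hzz := sq_of_mem h hzD
  have nx : ∀ a ∈ D, SimR D a d → x * a ∉ D := fun a ha hsa =>
    bad_mem h hc hES hd he hzW hze hP1 hP2 hW hxW hex
      ⟨w, hwW, fun hh => hnc hh.symm, by rw [← hvwx]; exact hns⟩ ha hsa
  have nw : ∀ a ∈ D, SimR D a d → w * a ∉ D := fun a ha hsa =>
    bad_mem h hc hES hd he hzW hze hP1 hP2 hW hwW hew
      ⟨x, hxW, hnc, by rw [← hvxw]; exact hns⟩ ha hsa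
  obtain ⟨a0, ha0, hsa0, hza0⟩ := hP1 z hzD (SimR.refl D z)
  have hnz : ∀ v' ∈ D, Opp e v' → ¬ Commute z v' := by
    intro v' hv' hev'
    rw [hza0]
    exact (key a0 ha0 hsa0).2.2.2.2.2 v' hv' hev'
  have nzx := hnz x hxD hex
  have nzw := hnz w hwD hew
  have nzv := hnz v hvD hev
  have hzw4 : orderOf (z * w) = 4 := WSet_order_four h hzW hwW nzw
  have hzx4 : orderOf (z * x) = 4 := WSet_order_four h hzW hxW nzx
  have hzv4 : orderOf (z * v) = 4 := WSet_order_four h hzW hvW nzv
  -- `q = [w, z]` commutes with `x`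
  set q : G := w * (z * w * z) with hq
  have hq2 : q = z * (w * z * w) := (comm_symm hzz hww hzw4).symm
  have hqW : q ∈ WSet D d := by rw [hq2]; exact WSet_comm h hzW hwW nzw
  have hqq := sq_of_mem h hqW.1
  have hqx : Commute q x := by
    by_contra hn
    have h1 := hwD2.2 z hzW (fun hh => nzw hh.symm) x hxW (by rw [← hq2]; exact hn)
    rw [← hq2] at h1
    have h2 : x * (q * x * q) ∈ WSet D d := WSet_comm h hxW hqW (fun hh => hn hh.symm)
    refine nx _ h2.1 h1 ?_
    rw [← mul_assoc x x, hxx, one_mul]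
    exact conj_mem' h hxD hqW.1
  -- `δ = [v, z]` is in the class of `d`
  set δ : G := v * (z * v * z) with hδ
  have hδ2 : δ = z * (v * z * v) := (comm_symm hzz hvv hzv4).symm
  have hδW : δ ∈ WSet D d := by rw [hδ2]; exact WSet_comm h hzW hvW nzv
  have hδD := hδW.1
  have hδs : SimR D δ d := by
    have h1 := hdeep.2.2 z hzW (fun hh => nzv hh.symm)
    rw [hδ2]; exact h1
  have cδx : Commute x δ := WSet_commute_sim h hc hd hδD hδs hxW
  have cδv : Commute v δ := WSet_commute_sim h hc hd hδD hδs hvW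
  have cδw : Commute w δ := WSet_commute_sim h hc hd hδD hδs hwW
  have cvx : Commute v x := by
    rw [hvxw]
    exact ((Commute.refl x).mul_right (commute_of_order_four hxx hww hxw4')).symm
  have cvw : Commute v w := by
    rw [hvwx]
    have h4 : orderOf (w * x) = 4 := by rw [orderOf_mul_comm' hww hxx]; exact hxw4'
    exact ((Commute.refl w).mul_right (commute_of_order_four hww hxx h4)).symm
  have hid := hall_witt_inv hxx hww hzz hvv hvxw hvwx hq hδ hqx.eq cδx.symm.eq cvx.eq cvw.eq
    cδv.symm.eq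
  set p : G := x * (z * x * z) with hp
  have hp2 : p = z * (x * z * x) := (comm_symm hzz hxx hzx4).symm
  rw [← hp2] at hid
  have hpD : p ∈ D := by rw [hp2]; exact (WSet_comm h hzW hxW nzx).1
  refine nw δ hδD hδs ?_
  have e5 : w * δ = p * w * p := by
    rw [cδw.eq, ← hid]
    calc p * (w * p * w) * w = p * w * p * (w * w) := by group
      _ = p * w * p := by rw [hww, mul_one]
  rw [e5]
  exact conj_mem' h hwD hpD

end Cfsg.Agent.H737
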